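import Mathlib.Algebra.Group.ForwardDiff
import Mathlib.Data.Nat.Choose.Basic
import Mathlib.Data.Nat.Choose.Sum
import Mathlib.Data.Nat.Factorial.Basic
import Mathlib.Tactic.Ring
import Mathlib.Tactic.LinearCombination
import Mathlib.Algebra.BigOperators.Intervals

/-!
# Alternating sums of powers
-/

universe u

open Finset fwdDiff Nat

namespace Groth.Agent.DRRLib

/-- The alternating sum with binomial coefficients. -/
def altSum (n k : ℕ) : ℤ :=
  ∑ j ∈ range (n + 1), (-1 : ℤ) ^ (n - j) * (n.choose j : ℤ) * (j : ℤ) ^ k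

lemma altSum_eq_fwdDiff (n k : ℕ) : altSum n k = Δ_[1]^[n] (fun r : ℤ => r ^ k) 0 := by
  rw [fwdDiff_iter_eq_sum_shift]
  simp [altSum]

lemma altSum_lt {n k : ℕ} (h : k < n) : altSum n k = 0 := by
  rw [altSum_eq_fwdDiff, fwdDiff_iter_pow_eq_zero_of_lt h]
  rfl

lemma altSum_self (n : ℕ) : altSum n n = n ! := by
  rw [altSum_eq_fwdDiff, fwdDiff_iter_eq_factorial]
  simp

lemma fwdDiff_one (n k : ℕ) :
    Δ_[1]^[n] (fun r : ℤ => r ^ k) 1 = altSum (n + 1) k + altSum n k := by
  rw [altSum_eq_fwdDiff, altSum_eq_fwdDiff, Function.iterate_succ_apply']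
  simp [fwdDiff]

lemma altSum_succ_succ (n k : ℕ) :
    altSum (n + 1) (k + 1) = (n + 1) * (altSum (n + 1) k + altSum n k) := by
  rw [← fwdDiff_one, fwdDiff_iter_eq_sum_shift, altSum, sum_range_succ' _ (n + 1), mul_sum]
  simp only [Nat.cast_zero, zero_pow (Nat.succ_ne_zero k), mul_zero, add_zero, smul_eq_mul,
    nsmul_eq_mul, mul_one]
  refine sum_congr rfl fun i hi => ?_
  have e : ((n + 1).choose (i + 1) : ℤ) * (i + 1 : ℤ) = (n + 1 : ℤ) * (n.choose i : ℤ) := by
    exact_mod_cast (Nat.add_one_mul_choose_eq n i).symm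
  rw [show n + 1 - (i + 1) = n - i by omega, pow_succ]
  push_cast
  linear_combination ((-1 : ℤ) ^ (n - i) * ((i : ℤ) + 1) ^ k) * e

lemma altSum_succ_self (n : ℕ) : altSum n (n + 1) = (((n + 1).choose 2 * n ! : ℕ) : ℤ) := by
  induction n with
  | zero => simp [altSum]
  | succ n ih =>
    rw [altSum_succ_succ, altSum_self, ih, Nat.choose_succ_succ' (n + 1) 1, Nat.choose_one_right,
      Nat.factorial_succ]
    push_cast
    ring

theorem altSum_cases (n k : ℕ) (hk : k ≤ n + 1) :
    altSum n k = (if k = n + 1 then (((n + 1).choose 2 * n.factorial : ℕ) : ℤ)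
        else if k = n then (n.factorial : ℤ) else 0) := by
  split_ifs with h₁ h₂
  · rw [h₁]; exact altSum_succ_self n
  · rw [h₂]; exact altSum_self n
  · exact altSum_lt (by omega)

lemma choose_two_mul_factorial (n : ℕ) : n * (n + 1) ! / 2 = (n + 1).choose 2 * n ! := by
  rw [Nat.choose_two_right, Nat.add_sub_cancel]
  have h : 2 ∣ (n + 1) * n := by
    rw [mul_comm]
    exact (Nat.even_mul_succ_self n).two_dvd
  obtain ⟨c, hc⟩ := h
  rw [hc, Nat.mul_div_cancel_left _ (by norm_num), Nat.factorial_succ,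
    show n * ((n + 1) * n !) = 2 * (c * n !) by rw [← mul_assoc, mul_comm n, hc]; ring,
    Nat.mul_div_cancel_left _ (by norm_num)]

theorem identity (A : Type u) [CommRing A] (x y : A) (n : ℕ) :
    ((n + 1)! : A) * x * y ^ n =
      (∑ j ∈ range (n + 1), (-1 : A) ^ (n - j) * (n.choose j : A) * (x + (j : A) * y) ^ (n + 1))
        - ((n * (n + 1)! / 2 : ℕ) : A) * y ^ (n + 1) := by
  have e : ∀ k, (∑ j ∈ range (n + 1), (-1 : A) ^ (n - j) * (n.choose j : A) * (j : A) ^ k) =
      (altSum n k : A) := fun k => by simp [altSum]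
  have hexp : (∑ j ∈ range (n + 1), (-1 : A) ^ (n - j) * (n.choose j : A) * (x + (j : A) * y) ^ (n + 1)) =
      ∑ k ∈ range (n + 1 + 1), y ^ k * x ^ (n + 1 - k) * ((n + 1).choose k : A) * (altSum n k : A) := by
    simp only [← e, mul_sum]
    rw [sum_comm]
    refine sum_congr rfl fun j _ => ?_
    rw [add_comm x, add_pow, mul_sum]
    refine sum_congr rfl fun k _ => ?_
    rw [mul_pow]
    ring
  rw [hexp, sum_range_succ, sum_range_succ]
  rw [sum_eq_zero fun k hk => by rw [altSum_lt (mem_range.1 hk)]; simp]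
  rw [altSum_self, altSum_succ_self, choose_two_mul_factorial, Nat.choose_succ_self_right,
    Nat.choose_self, Nat.sub_self, show n + 1 - n = 1 by omega, Nat.factorial_succ]
  push_cast
  ring

end Groth.Agent.DRRLib
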